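import Mathlib

/-!
# Derivations along a section and the conormal module (helper8)

For an `A`-algebra `B` with an `A`-section `σ : B → A` (kernel `b`) and a `B`-module `κ` killed by
`b`, an `A`-derivation `B → κ` is determined by its restriction to `b`, which factors through
`b/b²`.  Consequently, for `B₂ → B₁` compatible with sections such that `b₂/b₂² → b₁/b₁²` is
bijective, restriction of derivations `Der_A(B₁, κ) → Der_A(B₂, κ)` is bijective
(`der_eq_zero`, `exists_der`).
-/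

set_option autoImplicit false

namespace Groth.Agent.H8.EtSec

section one

variable {A B : Type*} [CommRing A] [CommRing B] [Algebra A B] (σ : B →ₐ[A] A)
  {κ : Type*} [AddCommGroup κ] [Module A κ] [Module B κ] [IsScalarTower A B κ]

theorem sub_mem_ker (c : B) : c - algebraMap A B (σ c) ∈ RingHom.ker σ := by
  rw [RingHom.mem_ker, map_sub, AlgHom.commutes]
  simp

theorem der_eq_sub (D : Derivation A B κ) (c : B) : D c = D (c - algebraMap A B (σ c)) := by
  rw [map_sub, D.map_algebraMap, sub_zero]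

theorem der_sq (hκ : ∀ x ∈ RingHom.ker σ, ∀ k : κ, x • k = 0) (D : Derivation A B κ) {z : B}
    (hz : z ∈ (RingHom.ker σ) ^ 2) : D z = 0 := by
  rw [pow_two] at hz
  refine Submodule.mul_induction_on hz (fun s hs t ht => ?_) (fun x y hx hy => ?_)
  · rw [D.leibniz, hκ s hs, hκ t ht, add_zero]
  · rw [map_add, hx, hy, add_zero]

theorem smul_eq_of_ker (hκ : ∀ x ∈ RingHom.ker σ, ∀ k : κ, x • k = 0) (c : B) (k : κ) :
    c • k = σ c • k := by
  have := hκ _ (sub_mem_ker σ c) k
  rw [sub_smul, algebraMap_smul, sub_eq_zero] at this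
  exact this

theorem smul_cotangent (c : B) (z : (RingHom.ker σ).Cotangent) : c • z = σ c • z := by
  have := Ideal.Cotangent.smul_eq_zero_of_mem (sub_mem_ker σ c) z
  rw [sub_smul, algebraMap_smul, sub_eq_zero] at this
  exact this

/-- The `A`-linear projection `c ↦ c - σ c` onto the augmentation ideal. -/
noncomputable def proj : B →ₗ[A] (RingHom.ker σ) where
  toFun c := ⟨c - algebraMap A B (σ c), sub_mem_ker σ c⟩
  map_add' c d := by
    apply Subtype.ext
    simp only [map_add, Submodule.coe_add]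
    ring
  map_smul' a c := by
    apply Subtype.ext
    show a • c - algebraMap A B (σ (a • c)) = a • (c - algebraMap A B (σ c))
    rw [map_smul, smul_eq_mul, map_mul, smul_sub, Algebra.smul_def a (algebraMap A B (σ c))]

@[simp] theorem proj_coe (c : B) : ((proj σ c : RingHom.ker σ) : B) = c - algebraMap A B (σ c) := rfl

theorem toCotangent_proj_mul (c d : B) :
    (RingHom.ker σ).toCotangent (proj σ (c * d)) =
      σ c • (RingHom.ker σ).toCotangent (proj σ d) +
        σ d • (RingHom.ker σ).toCotangent (proj σ c) := by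
  have h1 : proj σ (c * d) = c • proj σ d + algebraMap A B (σ d) • proj σ c := by
    apply Subtype.ext
    simp only [proj_coe, map_mul, Submodule.coe_add, Submodule.coe_smul, smul_eq_mul]
    ring
  rw [h1, map_add, map_smul, map_smul, smul_cotangent, algebraMap_smul]

end one

section two

variable {A B₁ B₂ : Type*} [CommRing A] [CommRing B₁] [CommRing B₂] [Algebra A B₁] [Algebra A B₂]
  [Algebra B₂ B₁] [IsScalarTower A B₂ B₁]
  (σ₁ : B₁ →ₐ[A] A) (σ₂ : B₂ →ₐ[A] A)
  {κ : Type*} [AddCommGroup κ] [Module A κ] [Module B₁ κ] [Module B₂ κ]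
  [IsScalarTower A B₁ κ] [IsScalarTower A B₂ κ] [IsScalarTower B₂ B₁ κ]

theorem der_eq_zero
    (hle : RingHom.ker σ₂ ≤ (RingHom.ker σ₁).comap (IsScalarTower.toAlgHom A B₂ B₁))
    (hcot : Function.Surjective
      (Ideal.mapCotangent (RingHom.ker σ₂) (RingHom.ker σ₁) (IsScalarTower.toAlgHom A B₂ B₁) hle))
    (hκ : ∀ x ∈ RingHom.ker σ₁, ∀ k : κ, x • k = 0)
    (D : Derivation A B₁ κ) (h : ∀ b : B₂, D (algebraMap B₂ B₁ b) = 0) : D = 0 := by
  ext c
  rw [der_eq_sub σ₁ D c]
  obtain ⟨yb, hyb⟩ := hcot ((RingHom.ker σ₁).toCotangent (proj σ₁ c))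
  obtain ⟨y, rfl⟩ := Ideal.toCotangent_surjective _ yb
  rw [Ideal.mapCotangent_toCotangent, Ideal.toCotangent_eq] at hyb
  have h2 := der_sq σ₁ hκ D hyb
  rw [map_sub, sub_eq_zero] at h2
  rw [Derivation.coe_zero, Pi.zero_apply, ← proj_coe, ← h2]
  exact h y.1

theorem exists_der (hσ : σ₁.comp (IsScalarTower.toAlgHom A B₂ B₁) = σ₂)
    (hle : RingHom.ker σ₂ ≤ (RingHom.ker σ₁).comap (IsScalarTower.toAlgHom A B₂ B₁))
    (hcot : Function.Bijective
      (Ideal.mapCotangent (RingHom.ker σ₂) (RingHom.ker σ₁) (IsScalarTower.toAlgHom A B₂ B₁) hle))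
    (hκ : ∀ x ∈ RingHom.ker σ₁, ∀ k : κ, x • k = 0)
    (D₂ : Derivation A B₂ κ) :
    ∃ D₁ : Derivation A B₁ κ, ∀ b : B₂, D₁ (algebraMap B₂ B₁ b) = D₂ b := by
  have hκ₂ : ∀ y ∈ RingHom.ker σ₂, ∀ k : κ, y • k = 0 := fun y hy k => by
    rw [← algebraMap_smul B₁ y k]
    exact hκ _ (hle hy) k
  let f : (RingHom.ker σ₂) →ₗ[A] κ :=
    { toFun := fun y => D₂ y.1
      map_add' := fun x y => by simp
      map_smul' := fun a y => by simp }
  have hf : ∀ x y : RingHom.ker σ₂, f (x * y) = 0 := fun x y => by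
    show D₂ ((x * y : RingHom.ker σ₂) : B₂) = 0
    have : ((x * y : RingHom.ker σ₂) : B₂) = x.1 * y.1 := rfl
    rw [this, D₂.leibniz, hκ₂ _ x.2, hκ₂ _ y.2, add_zero]
  let L₂ : (RingHom.ker σ₂).Cotangent →ₗ[A] κ := Ideal.Cotangent.lift f hf
  let e : (RingHom.ker σ₂).Cotangent ≃ₗ[A] (RingHom.ker σ₁).Cotangent :=
    LinearEquiv.ofBijective _ hcot
  let Dlin : B₁ →ₗ[A] κ :=
    L₂ ∘ₗ e.symm.toLinearMap ∘ₗ ((RingHom.ker σ₁).toCotangent.restrictScalars A) ∘ₗ proj σ₁
  have hD : ∀ c, Dlin c = L₂ (e.symm ((RingHom.ker σ₁).toCotangent (proj σ₁ c))) := fun c => rfl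
  refine ⟨Derivation.mk' Dlin fun c d => ?_, fun b => ?_⟩
  · rw [hD, hD, hD, toCotangent_proj_mul, map_add, map_smul, map_smul, map_add, map_smul,
      map_smul, smul_eq_of_ker σ₁ hκ c, smul_eq_of_ker σ₁ hκ d]
  · have h1 : (RingHom.ker σ₁).toCotangent (proj σ₁ (algebraMap B₂ B₁ b)) =
        e ((RingHom.ker σ₂).toCotangent (proj σ₂ b)) := by
      show _ = Ideal.mapCotangent _ _ _ hle (Ideal.toCotangent _ _)
      rw [Ideal.mapCotangent_toCotangent]
      refine congrArg _ (Subtype.ext ?_)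
      have h3 : σ₁ (algebraMap B₂ B₁ b) = σ₂ b := by rw [← hσ]; rfl
      simp only [proj_coe, h3, map_sub, IsScalarTower.toAlgHom_apply,
        ← IsScalarTower.algebraMap_apply]
    show Dlin (algebraMap B₂ B₁ b) = D₂ b
    rw [hD, h1, LinearEquiv.symm_apply_apply, Ideal.Cotangent.lift_toCotangent]
    show D₂ (b - algebraMap A B₂ (σ₂ b)) = D₂ b
    rw [map_sub, D₂.map_algebraMap, sub_zero]

end two

end Groth.Agent.H8.EtSec
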