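import Mathlib

/-!
# A duality criterion for bijectivity over a local ring (helper8)

`bijective_of_dual`: over a local ring `T` with residue field `κ`, a linear map `u : M → N`
(`M` finite, `N` finite free) is bijective as soon as every `T`-linear `χ : M → κ` factors
uniquely through `u`.
-/

set_option autoImplicit false

namespace Groth.Agent.H8.EtSec

open TensorProduct IsLocalRing

theorem tmul_eq_smul_one {T : Type*} [CommRing T] [IsLocalRing T] {P : Type*} [AddCommGroup P]
    [Module T P] (a : ResidueField T) (p : P) :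
    a ⊗ₜ[T] p = a • ((1 : ResidueField T) ⊗ₜ[T] p) := by
  rw [TensorProduct.smul_tmul', smul_eq_mul, mul_one]

theorem bijective_of_dual {T : Type*} [CommRing T] [IsLocalRing T] {M N : Type*}
    [AddCommGroup M] [AddCommGroup N] [Module T M] [Module T N] [Module.Finite T M]
    [Module.Finite T N] [Module.Free T N] (u : M →ₗ[T] N)
    (h : ∀ χ : M →ₗ[T] ResidueField T, ∃! ψ : N →ₗ[T] ResidueField T, ψ ∘ₗ u = χ) :
    Function.Bijective u := by
  let g : ResidueField T ⊗[T] M →ₗ[ResidueField T] ResidueField T ⊗[T] N :=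
    u.baseChange (ResidueField T)
  have hgt : ∀ (a : ResidueField T) (m : M), g (a ⊗ₜ m) = a ⊗ₜ u m := fun a m =>
    LinearMap.baseChange_tmul _ _ _
  have hg_inj : Function.Injective g := by
    rw [← LinearMap.dualMap_surjective_iff]
    intro χ'
    obtain ⟨ψ, hψ, -⟩ := h (χ'.restrictScalars T ∘ₗ TensorProduct.mk T (ResidueField T) M 1)
    refine ⟨LinearMap.liftBaseChange (ResidueField T) ψ, ?_⟩
    refine TensorProduct.AlgebraTensorModule.ext fun a m => ?_
    have h1 : ψ (u m) = χ' (1 ⊗ₜ m) := LinearMap.congr_fun hψ m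
    rw [LinearMap.dualMap_apply, hgt, LinearMap.liftBaseChange_tmul, h1, ← map_smul, ← tmul_eq_smul_one]
  have hg_surj : Function.Surjective g := by
    rw [← LinearMap.dualMap_injective_iff, injective_iff_map_eq_zero]
    intro ψ' hψ'
    have h0 : (ψ'.restrictScalars T ∘ₗ TensorProduct.mk T (ResidueField T) N 1) ∘ₗ u = 0 := by
      ext m
      have := LinearMap.congr_fun hψ' (1 ⊗ₜ m)
      rw [LinearMap.dualMap_apply, hgt] at this
      exact this
    obtain ⟨ψ, -, huniq⟩ := h 0
    have h1 : ψ'.restrictScalars T ∘ₗ TensorProduct.mk T (ResidueField T) N 1 = 0 :=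
      (huniq _ h0).trans (huniq 0 (by simp)).symm
    refine TensorProduct.AlgebraTensorModule.ext fun a n => ?_
    have h2 : ψ' (1 ⊗ₜ n) = 0 := LinearMap.congr_fun h1 n
    rw [tmul_eq_smul_one, map_smul, h2, smul_zero, LinearMap.zero_apply]
  have hl : (u.lTensor (ResidueField T) : ResidueField T ⊗[T] M → ResidueField T ⊗[T] N) = g :=
    (LinearMap.baseChange_eq_ltensor _).symm
  constructor
  · obtain ⟨l', hl'⟩ := (IsLocalRing.split_injective_iff_lTensor_residueField_injective u).2
      (by rw [hl]; exact hg_inj)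
    exact Function.HasLeftInverse.injective ⟨l', LinearMap.congr_fun hl'⟩
  · rw [← LinearMap.range_eq_top, ← IsLocalRing.map_tensorProduct_mk_eq_top, eq_top_iff]
    rintro x -
    obtain ⟨y, rfl⟩ := hg_surj x
    obtain ⟨m, rfl⟩ := TensorProduct.mk_surjective T M (ResidueField T)
      IsLocalRing.residue_surjective y
    exact ⟨u m, ⟨m, rfl⟩, (hgt 1 m).symm⟩

end Groth.Agent.H8.EtSec
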