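import Groth.Agent.Lib.Helper8.EtSec.Local
import Groth.Agent.Lib.Helper8.EtSec.Der

/-!
# Étaleness along a section from bijectivity of the conormal map (helper8)
-/

set_option autoImplicit false

namespace Groth.Agent.H8.EtSec

open IsLocalRing TensorProduct

universe u

section

variable {A B₁ B₂ : Type u} [CommRing A] [CommRing B₁] [CommRing B₂] [Algebra A B₁] [Algebra A B₂]
  [Algebra B₂ B₁] [IsScalarTower A B₂ B₁] (P : Ideal B₁) [P.IsPrime]

local notation "TT" => Localization.AtPrime P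
local notation "κκ" => ResidueField (Localization.AtPrime P)

theorem smul_residue_eq_zero {x : B₁} (hx : x ∈ P) (k : κκ) : x • k = 0 := by
  rw [← algebraMap_smul TT x k, Algebra.smul_def]
  have : algebraMap TT κκ (algebraMap B₁ TT x) = 0 := by
    rw [IsLocalRing.ResidueField.algebraMap_eq, IsLocalRing.residue_eq_zero_iff]
    exact (IsLocalization.AtPrime.to_map_mem_maximal_iff TT P x).2 hx
  rw [this, zero_mul]

theorem existsUnique_lift (σ₁ : B₁ →ₐ[A] A) (σ₂ : B₂ →ₐ[A] A)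
    (hσ : σ₁.comp (IsScalarTower.toAlgHom A B₂ B₁) = σ₂)
    (hle : RingHom.ker σ₂ ≤ (RingHom.ker σ₁).comap (IsScalarTower.toAlgHom A B₂ B₁))
    (hcot : Function.Bijective
      (Ideal.mapCotangent (RingHom.ker σ₂) (RingHom.ker σ₁) (IsScalarTower.toAlgHom A B₂ B₁) hle))
    (hP : RingHom.ker σ₁ ≤ P)
    (χ : TT ⊗[B₂] Ω[B₂⁄A] →ₗ[TT] κκ) :
    ∃! ψ : Ω[TT⁄A] →ₗ[TT] κκ, ψ ∘ₗ KaehlerDifferential.mapBaseChange A B₂ TT = χ := by
  have hκ : ∀ x ∈ RingHom.ker σ₁, ∀ k : κκ, x • k = 0 := fun x hx k =>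
    smul_residue_eq_zero P (hP hx) k
  have hbc : IsBaseChange TT (KaehlerDifferential.map A A B₁ TT) :=
    KaehlerDifferential.isBaseChange_of_formallyEtale A B₁ TT
  have hkey : ∀ (ψ : Ω[TT⁄A] →ₗ[TT] κκ) (b : B₂),
      ψ (KaehlerDifferential.mapBaseChange A B₂ TT (1 ⊗ₜ KaehlerDifferential.D A B₂ b)) =
        ψ (KaehlerDifferential.map A A B₁ TT
          (KaehlerDifferential.D A B₁ (algebraMap B₂ B₁ b))) := fun ψ b => by
    rw [KaehlerDifferential.mapBaseChange_tmul, one_smul, KaehlerDifferential.map_D,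
      KaehlerDifferential.map_D, ← IsScalarTower.algebraMap_apply]
  let D₂ : Derivation A B₂ κκ :=
    ((LinearMap.liftBaseChangeEquiv TT).symm χ).compDer (KaehlerDifferential.D A B₂)
  have hD₂ : ∀ b, D₂ b = χ (1 ⊗ₜ KaehlerDifferential.D A B₂ b) := fun b => rfl
  obtain ⟨D₁, hD₁⟩ := exists_der σ₁ σ₂ hσ hle hcot hκ D₂
  have hex : (hbc.lift D₁.liftKaehlerDifferential) ∘ₗ
      KaehlerDifferential.mapBaseChange A B₂ TT = χ := by
    apply (LinearMap.liftBaseChangeEquiv TT).symm.injective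
    apply Derivation.liftKaehlerDifferential_unique
    ext b
    show (hbc.lift D₁.liftKaehlerDifferential) (KaehlerDifferential.mapBaseChange A B₂ TT
      (1 ⊗ₜ KaehlerDifferential.D A B₂ b)) = χ (1 ⊗ₜ KaehlerDifferential.D A B₂ b)
    rw [hkey, hbc.lift_eq, Derivation.liftKaehlerDifferential_comp_D, hD₁, hD₂]
  refine ⟨_, hex, fun ψ' hψ' => ?_⟩
  refine hbc.algHom_ext _ _ fun ω => ?_
  let ℓ : (Ω[TT⁄A] →ₗ[TT] κκ) → (Ω[B₁⁄A] →ₗ[B₁] κκ) := fun ψ =>
    ψ.restrictScalars B₁ ∘ₗ KaehlerDifferential.map A A B₁ TT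
  suffices h : ℓ ψ' = ℓ (hbc.lift D₁.liftKaehlerDifferential) from LinearMap.congr_fun h ω
  apply Derivation.liftKaehlerDifferential_unique
  rw [← sub_eq_zero]
  apply der_eq_zero σ₁ σ₂ hle hcot.2 hκ
  intro b
  rw [Derivation.sub_apply]
  show ψ' (KaehlerDifferential.map A A B₁ TT (KaehlerDifferential.D A B₁ (algebraMap B₂ B₁ b))) -
    (hbc.lift D₁.liftKaehlerDifferential) (KaehlerDifferential.map A A B₁ TT
      (KaehlerDifferential.D A B₁ (algebraMap B₂ B₁ b))) = 0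
  rw [← hkey, ← hkey, ← LinearMap.comp_apply, ← LinearMap.comp_apply, hψ', hex, sub_self]

theorem main [Algebra.FinitePresentation A B₁] [Algebra.FiniteType A B₂]
    (σ₁ : B₁ →ₐ[A] A) (σ₂ : B₂ →ₐ[A] A)
    (hσ : σ₁.comp (IsScalarTower.toAlgHom A B₂ B₁) = σ₂)
    (hle : RingHom.ker σ₂ ≤ (RingHom.ker σ₁).comap (IsScalarTower.toAlgHom A B₂ B₁))
    (hcot : Function.Bijective
      (Ideal.mapCotangent (RingHom.ker σ₂) (RingHom.ker σ₁) (IsScalarTower.toAlgHom A B₂ B₁) hle))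
    (hsm : Algebra.IsSmoothAt A P) (hP : RingHom.ker σ₁ ≤ P) : Algebra.IsEtaleAt B₂ P := by
  haveI : Algebra.FormallySmooth A TT := hsm
  haveI : Module.Free TT Ω[TT⁄A] := Module.free_of_flat_of_isLocalRing
  have hu : Function.Bijective (KaehlerDifferential.mapBaseChange A B₂ TT) :=
    bijective_of_dual _ (existsUnique_lift P σ₁ σ₂ hσ hle hcot hP)
  refine ⟨?_, ?_⟩
  · refine subsingleton_of_forall_eq 0 fun x => ?_
    obtain ⟨y, rfl⟩ := KaehlerDifferential.map_surjective A B₂ TT x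
    obtain ⟨z, rfl⟩ := hu.2 y
    exact (KaehlerDifferential.exact_mapBaseChange_map A B₂ TT _).2 ⟨z, rfl⟩
  · have hδ : ∀ x, Algebra.H1Cotangent.δ A B₂ TT x = 0 := fun x => hu.1 (by
      rw [map_zero]
      exact (Algebra.H1Cotangent.exact_δ_mapBaseChange A B₂ TT _).2 ⟨x, rfl⟩)
    refine subsingleton_of_forall_eq 0 fun x => ?_
    obtain ⟨w, rfl⟩ := (Algebra.H1Cotangent.exact_map_δ A B₂ TT x).1 (hδ x)
    rw [Subsingleton.elim w 0, map_zero]

end

end Groth.Agent.H8.EtSec
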